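import Cfsg.Agent.Coset.Blocks
import Cfsg.Agent.Coset.HN.Base
import Cfsg.Agent.Coset.HN.Out.Data

/-! Boolean checks for the automorphisms of the group on `x, y, z`. -/

set_option autoImplicit false
set_option maxRecDepth 100000
set_option Elab.async false

namespace CfsgLib.Coset.HN.Out

open CfsgLib.Coset

section Kernel

/-- Repetition of a word. -/
noncomputable def rep (m : Nat) (w : List Nat) : List Nat :=
  Nat.rec (motive := fun _ => List Nat) [] (fun _ ih => w ++ ih) m

/-- The images of the letters under the twisting automorphism. -/
def imgW : List (List Nat) := [[0], [1], [2], [3], [4, 0, 0]]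

/-- A word with the letters replaced by their images. -/
noncomputable def subW (w : List Nat) : List Nat :=
  List.rec (motive := fun _ => List Nat) [] (fun l _ ih => imgW.getD l [] ++ ih) w

/-- A product of the letters `U, S, Z` and their inverses. -/
noncomputable def sylW (a : List Nat) : List Nat :=
  List.rec (motive := fun _ => List Nat) []
    (fun e _ ih => [uW, sW, zW, invWd ivW uW, invWd ivW sW, invWd ivW zW].getD e [] ++ ih) a

/-- The test passed by the element centralising the square. -/
noncomputable def tests (w : List Nat) : Bool :=
  ST.eqB KD.Tb (rep 7 (uW ++ (sW ++ w))) []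

/-- A word commuting with `u` carries the first base point into its cycle or that of the central
involution. -/
noncomputable def centU (q : Nat) : Bool :=
  SU.siftAll KD.Tb (fun i => followF (tget KD.Tb) q (rep i uW)) fun w =>
    cond (SU.eqB KD.Tb (w ++ uW) (uW ++ w))
      (cond (allBelow 4 11 fun i =>
        cond (Nat.beq q (followF (tget KD.Tb) (SU.B 0) (rep i uW))) false
          (cond (Nat.beq q (followF (tget KD.Tb) (SU.B 0) ([0, 0] ++ rep i uW))) false true))
        false true) true

/-- An element commuting with the square passes the test only if it is the listed one. -/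
noncomputable def centT (q : Nat) : Bool :=
  ST.siftAll KD.Tb (fun i => followF (tget KD.Tb) q (rep i tW)) fun w =>
    cond (ST.eqB KD.Tb (w ++ tW) (tW ++ w))
      (cond (tests w) (ST.eqB KD.Tb w zW) true) true

end Kernel

theorem levU : allBelow 2 4 (fun i => SU.checkLev KD.Tb 1408 5 11 i) = true := by decide +kernel

theorem levT : allBelow 2 4 (fun i => ST.checkLev KD.Tb 1408 5 11 i) = true := by decide +kernel

theorem baseU : allBelow 2 4 (fun i =>
    Nat.beq (SU.B i) (follow (tget KD.Tb) (SU.B 0) (rep i uW))) = true := by decide +kernel

theorem baseT : allBelow 2 4 (fun i =>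
    Nat.beq (ST.B i) (follow (tget KD.Tb) (ST.B 0) (rep i tW))) = true := by decide +kernel

theorem centU_all : allBelow 11 1408 centU = true := by decide +kernel

theorem centT_all : allBelow 11 1408 centT = true := by decide +kernel

theorem letters_ok : checkLetters 5 [uW, sW, tW, zW] = true := by decide +kernel

theorem u_ok : cond (ST.eqB KD.Tb (rep 11 uW) []) (cond (ST.eqB KD.Tb uW []) false true) false = true := by
  decide +kernel

theorem s_ok : ST.eqB KD.Tb (uW ++ sW) (sW ++ rep 2 uW) = true := by decide +kernel

theorem t_ok : ST.eqB KD.Tb tW (sW ++ sW) = true := by decide +kernel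

theorem z_comm : ST.eqB KD.Tb (zW ++ tW) (tW ++ zW) = true := by decide +kernel

theorem z_tests : tests zW = true := by decide +kernel

theorem img_letters : checkLetters 5 imgW = true := by decide +kernel

theorem img_iv : allBelow 3 5 (fun x =>
    ST.eqB KD.Tb (imgW.getD (ivW x) [] ++ imgW.getD x []) []) = true := by decide +kernel

theorem sub_rels : allList (fun w => ST.eqB KD.Tb (subW w) []) KD.rels = true := by decide +kernel

theorem sub_u : ST.eqB KD.Tb (subW uW) uW = true := by decide +kernel

theorem sub_s : ST.eqB KD.Tb (subW sW) (sW ++ [0, 0]) = true := by decide +kernel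

theorem gen_ok : allBelow 2 3 (fun l =>
    cond (checkLetters 5 [sylW (genA.getD l [])])
      (ST.eqB KD.Tb (sylW (genA.getD l [])) [Nat.mul 2 l]) false) = true := by decide +kernel

end CfsgLib.Coset.HN.Out
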