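import Cfsg.Agent.Coset.HN.KBound
import Cfsg.Agent.Coset.HN.Out.Defs
import Mathlib.GroupTheory.Sylow
import Mathlib.Tactic.IntervalCases

/-!
Automorphisms of the group on `x, y, z` (a double cover of `HS:2`).

An automorphism can be composed with an inner one and a twist by the central involution so as to
fix an element `U` of order 11 and an element `S` of order 10 normalising its subgroup; it then
fixes the element `Z` centralising `S ^ 2`, and `U, S, Z` generate the group.
-/

set_option autoImplicit false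
set_option maxRecDepth 100000
set_option Elab.async false

namespace CfsgLib.Coset.HN.Out

open CfsgLib.Coset

theorem fin : Finite K0 := card_K0_le.1

theorem ivW_eq : ∀ l, ivW l = ivK l
  | 0 => rfl
  | 1 => rfl
  | 2 => rfl
  | 3 => rfl
  | _ + 4 => rfl

theorem inv_W (l : Nat) : fl Lk (ivW l) = (fl Lk l)⁻¹ := by rw [ivW_eq]; exact inv_Lk l

theorem valid_of {D : SiftData} (hk : D.k = 4) (hiv : ∀ l, D.iv l = ivW l)
    (hm : ∏ i : Fin D.k, D.m i = 177408000)
    (h : allBelow 2 4 (fun i => D.checkLev KD.Tb 1408 5 11 i) = true) : D.Valid Lk σK KD.Tb where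
  hm := matches_σK
  inv l := by rw [hiv]; exact inv_W l
  inv_lt l hl := by
    rw [hiv, length_Lk, ivW_eq]
    rw [length_Lk] at hl
    interval_cases l <;> decide
  lev i hi := by rw [length_Lk]; exact ⟨11, of_allBelow h i (hk ▸ hi)⟩
  card := by rw [card_K0.1, hm]
  fin := fin

theorem VT : ST.Valid Lk σK KD.Tb :=
  valid_of rfl (fun _ => rfl)
    (by show (∏ i : Fin 4, [1408, 350, 180, 2].getD i 0) = _; simp [Fin.prod_univ_succ]) levT

theorem VU : SU.Valid Lk σK KD.Tb :=
  valid_of rfl (fun _ => rfl)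
    (by show (∏ i : Fin 4, [1408, 350, 180, 2].getD i 0) = _; simp [Fin.prod_univ_succ]) levU

theorem kT : ST.k ≤ 8 := by decide

theorem lt5 {ws : List (List Nat)} (h : checkLetters 5 ws = true) {w : List Nat} (hw : w ∈ ws) :
    ∀ l ∈ w, l < (Lk).length := fun l hl => by rw [length_Lk]; exact letters_lt h w hw l hl

theorem lu : ∀ l ∈ uW, l < (Lk).length := lt5 letters_ok (by simp)
theorem ls : ∀ l ∈ sW, l < (Lk).length := lt5 letters_ok (by simp)
theorem lt : ∀ l ∈ tW, l < (Lk).length := lt5 letters_ok (by simp)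
theorem lz : ∀ l ∈ zW, l < (Lk).length := lt5 letters_ok (by simp)

theorem lapp {u w : List Nat} (hu : ∀ l ∈ u, l < (Lk).length) (hw : ∀ l ∈ w, l < (Lk).length) :
    ∀ l ∈ u ++ w, l < (Lk).length := fun l h => (List.mem_append.mp h).elim (hu l) (hw l)

theorem lrep {w : List Nat} (hw : ∀ l ∈ w, l < (Lk).length) :
    ∀ m, ∀ l ∈ rep m w, l < (Lk).length := by
  intro m
  induction m with
  | zero => intro l h; simp [rep] at h
  | succ m ih => exact lapp hw ih

theorem lnil : ∀ l ∈ ([] : List Nat), l < (Lk).length := by simp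

theorem l00 : ∀ l ∈ ([0, 0] : List Nat), l < (Lk).length := by
  intro l hl; rw [length_Lk]; simp at hl; omega

theorem ev_rep (w : List Nat) : ∀ m, ev Lk (rep m w) = ev Lk w ^ m := by
  intro m
  induction m with
  | zero => simp [rep]
  | succ m ih => rw [show rep (m + 1) w = w ++ rep m w from rfl, ev_append, ih, pow_succ']

theorem ev_00 : ev Lk [0, 0] = x2 := by simp [x2]

theorem eqW {u w : List Nat} (hu : ∀ l ∈ u, l < (Lk).length) (hw : ∀ l ∈ w, l < (Lk).length) :
    ST.eqB KD.Tb u w = true ↔ ev Lk u = ev Lk w :=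
  VT.eqB_iff kT hu hw

/-- The element of order 11. -/
noncomputable def U : K0 := ev Lk uW

/-- The element of order 10. -/
noncomputable def S : K0 := ev Lk sW

/-- The element centralising the square. -/
noncomputable def Z : K0 := ev Lk zW

theorem ev_tW : ev Lk tW = S * S := by
  rw [(eqW lt (lapp ls ls)).mp t_ok, ev_append]; rfl

theorem U_pow : U ^ 11 = 1 := by
  have h := (cond_false_eq_true.mp u_ok).1
  rwa [eqW (lrep lu 11) lnil, ev_rep, ev_nil] at h

theorem orderOf_U : orderOf U = 11 := by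
  have : Fact (Nat.Prime 11) := ⟨by norm_num⟩
  refine orderOf_eq_prime U_pow fun h1 => ?_
  have h := (cond_false_eq_true.mp u_ok).2
  rw [(eqW lu lnil).mpr (by rw [ev_nil]; exact h1)] at h
  exact Bool.noConfusion h

theorem U_S : U * S = S * U ^ 2 := by
  have h := (eqW (lapp lu ls) (lapp ls (lrep lu 2))).mp s_ok
  rwa [ev_append, ev_append, ev_rep] at h

theorem U_pow_S : ∀ m, U ^ m * S = S * U ^ (2 * m) := by
  intro m
  induction m with
  | zero => simp
  | succ m ih =>
    rw [pow_succ, mul_assoc, U_S, ← mul_assoc, ih, mul_assoc, ← pow_add]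
    ring_nf

theorem x2_ne : x2 ≠ 1 := fun h => σK_x2_ne (by rw [h, map_one])

theorem x2_not_pow (m : Nat) : x2 ≠ U ^ m := by
  intro h
  have h2 : (U ^ m) ^ 2 = 1 := by rw [← h, sq]; exact x2_sq
  rw [← pow_mul, ← orderOf_dvd_iff_pow_eq_one, orderOf_U] at h2
  have : 11 ∣ m := (Nat.Coprime.dvd_mul_right (by norm_num)).mp h2
  exact x2_ne (h.trans (orderOf_dvd_iff_pow_eq_one.mp (orderOf_U ▸ this)))

theorem mem_cent_U {g : K0} (hg : g * U = U * g) : ∃ i, g = U ^ i ∨ g = x2 * U ^ i := by
  have hq : im σK g (SU.B 0) < 1408 := im_lt _ (VU.base_lt (by decide))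
  have hB : ∀ i < 4, SU.B i = im σK (U ^ i) (SU.B 0) := fun i hi => by
    rw [Nat.eq_of_beq_eq_true (of_allBelow baseU i hi), ← im_ev matches_σK (lrep lu i)
      (VU.base_lt (by decide)), ev_rep]
    rfl
  have hc : ∀ i : Nat, U ^ i * g = g * U ^ i := fun i =>
    ((show Commute U g from hg.symm).pow_left i).eq
  have himg : ∀ i < SU.k, followF (tget KD.Tb) (im σK g (SU.B 0)) (rep i uW) =
      im σK g (SU.B i) := fun i hi => by
    rw [followF_eq, ← im_ev matches_σK (lrep lu i) hq, ev_rep, ← im_mul]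
    show im σK (g * U ^ i) _ = _
    rw [← hc, im_mul, ← hB i hi]
  obtain ⟨w, hl, he, hp⟩ := VU.of_siftAll himg (of_allBelow centU_all _ hq)
  rw [(VU.eqB_iff (by decide) (lapp hl lu) (lapp lu hl)).mpr
    (by rw [ev_append, ev_append, he]; exact hg), cond_true] at hp
  have key : ∀ c : K0, c * U = U * c → im σK g (SU.B 0) = im σK c (SU.B 0) → g = c := by
    intro c hcc he0
    refine VU.ext fun j hj => ?_
    have hc' : U ^ j * c = c * U ^ j := ((show Commute U c from hcc.symm).pow_left j).eq
    rw [hB j hj, ← im_mul, ← im_mul, hc, hc', im_mul, im_mul, he0]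
  by_contra hne
  simp only [not_exists, not_or] at hne
  have hall : allBelow 4 11 (fun i => cond (Nat.beq (im σK g (SU.B 0))
      (followF (tget KD.Tb) (SU.B 0) (rep i uW))) false
      (cond (Nat.beq (im σK g (SU.B 0))
        (followF (tget KD.Tb) (SU.B 0) ([0, 0] ++ rep i uW))) false true)) = true := by
    refine allBelow_of (by norm_num) fun i _ => ?_
    cases hb : Nat.beq (im σK g (SU.B 0)) (followF (tget KD.Tb) (SU.B 0) (rep i uW))
    · cases hb' : Nat.beq (im σK g (SU.B 0))
          (followF (tget KD.Tb) (SU.B 0) ([0, 0] ++ rep i uW))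
      · rfl
      · exfalso
        have e := Nat.eq_of_beq_eq_true hb'
        rw [followF_eq, ← im_ev matches_σK (lapp l00 (lrep lu i)) (VU.base_lt (by decide)),
          ev_append, ev_00, ev_rep] at e
        refine (hne i).2 (key _ ?_ e)
        show x2 * U ^ i * U = U * (x2 * U ^ i)
        rw [mul_assoc, ← pow_succ, ← mul_assoc U, x2_comm U, mul_assoc, ← pow_succ']
    · exfalso
      have e := Nat.eq_of_beq_eq_true hb
      rw [followF_eq, ← im_ev matches_σK (lrep lu i) (VU.base_lt (by decide)), ev_rep] at e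
      exact (hne i).1 (key _ (pow_mul_comm' U i) e)
  rw [hall, cond_true] at hp
  exact Bool.noConfusion hp

/-- The central involution is the only involution commuting with `U`. -/
theorem invol_cent_U {v : K0} (hv : v * U = U * v) (h2 : v * v = 1) (hne : v ≠ 1) : v = x2 := by
  obtain ⟨i, h | h⟩ := mem_cent_U hv
  all_goals
    have hd : U ^ (i * 2) = 1 := by
      rw [pow_mul, sq]
      rcases (show v = U ^ i ∨ v = x2 * U ^ i by tauto) with e | e
      · rw [← e, h2]
      · have : v * v = U ^ i * U ^ i := by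
          rw [e, mul_assoc, ← mul_assoc (U ^ i) x2, x2_comm, mul_assoc x2 (U ^ i), ← mul_assoc,
            x2_sq, one_mul]
        rw [← this, h2]
    have hi : U ^ i = 1 := by
      rw [← orderOf_dvd_iff_pow_eq_one, orderOf_U] at hd ⊢
      exact (Nat.Coprime.dvd_mul_right (by norm_num)).mp hd
    rw [hi] at h
  · exact absurd h hne
  · rw [h, mul_one]

/-- The twist by the central involution, on letters. -/
noncomputable def img : List K0 := imgW.map (ev Lk)

theorem length_img : img.length = 5 := by simp [img, imgW]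

theorem fl_img (l : Nat) : fl img l = ev Lk (imgW.getD l []) := by
  rcases Nat.lt_or_ge l imgW.length with h | h
  · rw [fl, List.getD_eq_getElem _ _ (by simpa [img] using h), List.getD_eq_getElem _ _ h]
    simp [img]
  · rw [fl_of_le _ (by simpa [img] using h), List.getD_eq_default _ _ h, ev_nil]

theorem limg (l : Nat) : ∀ a ∈ imgW.getD l [], a < (Lk).length := by
  rcases Nat.lt_or_ge l imgW.length with h | h
  · rw [List.getD_eq_getElem _ _ h]
    exact lt5 img_letters (List.getElem_mem h)
  · rw [List.getD_eq_default _ _ h]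
    simp

theorem ev_subW : ∀ w : List Nat, ev img w = ev Lk (subW w) := by
  intro w
  induction w with
  | nil => simp [subW]
  | cons l w ih =>
    rw [show subW (l :: w) = imgW.getD l [] ++ subW w from rfl, ev_cons, ev_append, ih, fl_img]

theorem lsubW : ∀ w : List Nat, ∀ a ∈ subW w, a < (Lk).length := by
  intro w
  induction w with
  | nil => intro a h; simp [subW] at h
  | cons l w ih => exact lapp (limg l) ih

theorem img_rels : ∀ w ∈ KD.rels, ev img w = 1 := by
  intro w hw
  rw [ev_subW, (eqW (lsubW w) lnil).mp (allList_iff.mp sub_rels w hw), ev_nil]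

/-- The twist `z ↦ z x²`, as a homomorphism. -/
noncomputable def twistHom : K0 →* K0 := numHom length_img img_rels

theorem twistHom_ev (w : List Nat) : twistHom (ev Lk w) = ev Lk (subW w) :=
  (numHom_ev length_img img_rels w).trans (ev_subW w)

theorem twistHom_twice : ∀ g, twistHom (twistHom g) = g := by
  intro g
  have hg : g ∈ Subgroup.closure {v | v ∈ Lk} := by rw [closure_numGens]; trivial
  induction hg using Subgroup.closure_induction with
  | mem v hv =>
    obtain ⟨l, hl, rfl⟩ := List.getElem_of_mem hv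
    rw [show (Lk)[l] = fl Lk l from (List.getD_eq_getElem _ _ hl).symm,
      show fl Lk l = ev Lk [l] by simp, twistHom_ev, twistHom_ev]
    rw [length_Lk] at hl
    refine (eqW (lsubW _) (lt5 (ws := [[l]]) ?_ (by simp))).mp ?_
    · interval_cases l <;> decide +kernel
    · interval_cases l <;> decide +kernel
  | one => simp
  | mul a b _ _ ha hb => rw [map_mul, map_mul, ha, hb]
  | inv a _ ha => rw [map_inv, map_inv, ha]

/-- The twist `z ↦ z x²`. -/
noncomputable def twist : MulAut K0 :=
  { twistHom with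
    invFun := twistHom
    left_inv := twistHom_twice
    right_inv := twistHom_twice }

theorem twist_apply (g : K0) : twist g = twistHom g := rfl

theorem twist_U : twist U = U := by
  rw [twist_apply, U, twistHom_ev, (eqW (lsubW _) lu).mp sub_u]

theorem twist_S : twist S = S * x2 := by
  rw [twist_apply, S, twistHom_ev, (eqW (lsubW _) (lapp ls l00)).mp sub_s, ev_append, ev_00]

theorem twist_x2 : twist x2 = x2 := by
  rw [twist_apply, ← ev_00, twistHom_ev]; rfl

theorem twist_gen (l : Nat) (hl : l < 4) : twist (fl Lk l) = fl Lk l := by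
  rw [twist_apply, show fl Lk l = ev Lk [l] by simp, twistHom_ev]
  interval_cases l <;> rfl

theorem twist_z : twist (fl Lk 4) = fl Lk 4 * x2 := by
  rw [twist_apply, show fl Lk 4 = ev Lk [4] by simp, twistHom_ev,
    show subW [4] = [4] ++ [0, 0] from rfl, ev_append, ev_00]

theorem gen_mem (l : Nat) (hl : l < 3) :
    fl Lk (2 * l) ∈ Subgroup.closure ({U, S, Z} : Set K0) := by
  have h := cond_false_eq_true.mp (of_allBelow gen_ok l hl)
  have e := (eqW (lt5 h.1 (List.mem_singleton_self _))
    (fun a ha => by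
      rw [List.mem_singleton.mp ha, length_Lk]; show Nat.mul 2 l < 5; rw [Nat.mul_eq]; omega)).mp h.2
  rw [ev_cons, ev_nil, mul_one] at e
  rw [show 2 * l = Nat.mul 2 l from rfl, ← e]
  generalize genA.getD l [] = a
  induction a with
  | nil => rw [show sylW [] = [] from rfl, ev_nil]; exact one_mem _
  | cons m a ih =>
    rw [show sylW (m :: a) = [uW, sW, zW, invWd ivW uW, invWd ivW sW, invWd ivW zW].getD m [] ++
      sylW a from rfl, ev_append]
    refine mul_mem ?_ ih
    match m with
    | 0 => exact Subgroup.subset_closure (by simp [U])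
    | 1 => exact Subgroup.subset_closure (by simp [S])
    | 2 => exact Subgroup.subset_closure (by simp [Z])
    | 3 => simp only [List.getD_cons_succ, List.getD_cons_zero]
           rw [ev_invWd inv_W]
           exact inv_mem (Subgroup.subset_closure (by simp [U]))
    | 4 => simp only [List.getD_cons_succ, List.getD_cons_zero]
           rw [ev_invWd inv_W]
           exact inv_mem (Subgroup.subset_closure (by simp [S]))
    | 5 => simp only [List.getD_cons_succ, List.getD_cons_zero]
           rw [ev_invWd inv_W]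
           exact inv_mem (Subgroup.subset_closure (by simp [Z]))
    | n + 6 => simp

theorem closure_USZ : Subgroup.closure ({U, S, Z} : Set K0) = ⊤ := by
  rw [eq_top_iff, ← closure_numGens (k := 5) (rels := KD.rels), Subgroup.closure_le]
  intro v hv
  obtain ⟨l, hl, rfl⟩ := List.getElem_of_mem hv
  rw [SetLike.mem_coe, show (numGens 5 KD.rels)[l] = fl Lk l from
    (List.getD_eq_getElem _ _ hl).symm]
  rw [length_numGens] at hl
  interval_cases l
  · exact gen_mem 0 (by norm_num)
  · rw [show 1 = ivK 0 from rfl, inv_Lk]; exact inv_mem (gen_mem 0 (by norm_num))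
  · exact gen_mem 1 (by norm_num)
  · rw [show 3 = ivK 2 from rfl, inv_Lk]; exact inv_mem (gen_mem 1 (by norm_num))
  · exact gen_mem 2 (by norm_num)

theorem ext_USZ {α β : MulAut K0} (hu : α U = β U) (hs : α S = β S) (hz : α Z = β Z) : α = β := by
  refine MulEquiv.ext fun g => ?_
  have hg : g ∈ Subgroup.closure ({U, S, Z} : Set K0) := closure_USZ ▸ Subgroup.mem_top g
  induction hg using Subgroup.closure_induction with
  | mem g hg => rcases hg with rfl | rfl | rfl <;> assumption
  | one => simp
  | mul a b _ _ ha hb => rw [map_mul, map_mul, ha, hb]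
  | inv a _ ha => rw [map_inv, map_inv, ha]

theorem Z_test : (U * (S * Z)) ^ 7 = 1 := by
  have h := (eqW (lrep (lapp lu (lapp ls lz)) 7) lnil).mp z_tests
  rwa [ev_rep, ev_append, ev_append, ev_nil] at h

theorem Z_comm : Z * (S * S) = S * S * Z := by
  have h := (eqW (lapp lz lt) (lapp lt lz)).mp z_comm
  rwa [ev_append, ev_append, ev_tW] at h

theorem image_Z (ψ : MulAut K0) (hU : ψ U = U) (hS : ψ S = S) : ψ Z = Z := by
  obtain ⟨g, hg⟩ : ∃ g, g = ψ Z := ⟨_, rfl⟩
  rw [← hg]
  have hc : g * (S * S) = S * S * g := by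
    simpa [hS, hg] using congrArg ψ Z_comm
  have ht : (U * (S * g)) ^ 7 = 1 := by
    simpa [hU, hS, hg] using congrArg ψ Z_test
  have hq : im σK g (ST.B 0) < 1408 := im_lt _ (VT.base_lt (by decide))
  have himg : ∀ i < ST.k, followF (tget KD.Tb) (im σK g (ST.B 0)) (rep i tW) =
      im σK g (ST.B i) := fun i hi => by
    rw [followF_eq, ← im_ev matches_σK (lrep lt i) hq, ev_rep, ← im_mul,
      ← (show Commute (ev Lk tW) g by rw [ev_tW]; exact hc.symm).pow_left i |>.eq, im_mul,
      Nat.eq_of_beq_eq_true (of_allBelow baseT i hi), ← im_ev matches_σK (lrep lt i)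
        (VT.base_lt (by decide)), ev_rep]
  obtain ⟨w, hl, he, hp⟩ := VT.of_siftAll himg (of_allBelow centT_all _ hq)
  rw [(eqW (lapp hl lt) (lapp lt hl)).mpr (by rw [ev_append, ev_append, he, ev_tW]; exact hc),
    cond_true, tests, (eqW (lrep (lapp lu (lapp ls hl)) 7) lnil).mpr
      (by rw [ev_rep, ev_append, ev_append, ev_nil, he]; exact ht), cond_true] at hp
  exact he.symm.trans ((eqW hl lz).mp hp)

theorem sylow_conj (ψ : MulAut K0) : ∃ g : K0, ∃ k : Nat, g * ψ U * g⁻¹ = U ^ k := by
  have := fin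
  have : Fact (Nat.Prime 11) := ⟨by norm_num⟩
  have hc : ∀ V : K0, orderOf V = 11 →
      Nat.card (Subgroup.zpowers V) = 11 ^ (Nat.card K0).factorization 11 := by
    intro V hV
    rw [Nat.card_zpowers, hV, card_K0.1]
    have : (177408000 : Nat).factorization 11 = 1 := by
      rw [Nat.factorization_def _ (by norm_num), show (177408000 : Nat) = 11 * 16128000 from
        by norm_num, padicValNat.mul (by norm_num) (by norm_num), padicValNat.self (by norm_num),
        padicValNat.eq_zero_of_not_dvd (by norm_num)]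
    rw [this, pow_one]
  have h2 : orderOf (ψ U) = 11 := by rw [MulEquiv.orderOf_eq, orderOf_U]
  obtain ⟨g, hg⟩ := MulAction.exists_smul_eq K0 (Sylow.ofCard _ (hc _ h2))
    (Sylow.ofCard _ (hc _ orderOf_U))
  have hm : g * ψ U * g⁻¹ ∈ Subgroup.zpowers U := by
    have h1 : g * ψ U * g⁻¹ ∈ ((g • Sylow.ofCard _ (hc _ h2) : Sylow 11 K0) : Subgroup K0) := by
      rw [Sylow.coe_subgroup_smul]
      exact ⟨ψ U, Subgroup.mem_zpowers _, rfl⟩
    rw [hg] at h1
    exact h1
  obtain ⟨k, hk⟩ := Submonoid.mem_powers_iff _ _ |>.mp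
    ((isOfFinOrder_of_finite U).mem_powers_iff_mem_zpowers.mpr hm)
  exact ⟨g, k, hk.symm⟩

theorem conj_S_pow : ∀ j m : Nat, S ^ j * U ^ m * (S ^ j)⁻¹ = U ^ (6 ^ j * m) := by
  have h1 : ∀ m, S * U ^ m * S⁻¹ = U ^ (6 * m) := by
    intro m
    rw [mul_inv_eq_iff_eq_mul, U_pow_S, ← pow_mod_orderOf U (2 * (6 * m)), orderOf_U,
      show 2 * (6 * m) % 11 = m % 11 by omega, ← orderOf_U, pow_mod_orderOf]
  intro j
  induction j with
  | zero => intro m; simp
  | succ j ih =>
    intro m
    rw [pow_succ, mul_inv_rev, show S ^ j * S * U ^ m * (S⁻¹ * (S ^ j)⁻¹) =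
      S ^ j * (S * U ^ m * S⁻¹) * (S ^ j)⁻¹ by group, h1, ih, pow_succ, mul_assoc]

theorem exists_inv : ∀ k : Fin 11, k ≠ 0 → ∃ j : Fin 10, 6 ^ (j : Nat) * (k : Nat) % 11 = 1 := by
  decide

/-- An automorphism composed with an inner one fixes `U` and fixes `S` up to the central
involution. -/
theorem exists_fix (ψ : MulAut K0) : ∃ g : K0, (MulAut.conj g * ψ) U = U ∧
    ((MulAut.conj g * ψ) S = S ∨ (MulAut.conj g * ψ) S = S * x2) := by
  obtain ⟨g, k, hk⟩ := sylow_conj ψ
  have hk0 : k % 11 ≠ 0 := by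
    intro h0
    rw [← pow_mod_orderOf, orderOf_U, h0, pow_zero, conj_eq_one_iff] at hk
    have := orderOf_U
    rw [ψ.injective (hk.trans (map_one ψ).symm), orderOf_one] at this
    exact absurd this (by norm_num)
  obtain ⟨j, hj⟩ := exists_inv ⟨k % 11, Nat.mod_lt _ (by norm_num)⟩
    (fun h => hk0 (congrArg Fin.val h))
  have hU : (MulAut.conj (S ^ (j : Nat) * g) * ψ) U = U := by
    simp only [MulAut.mul_apply, MulAut.conj_apply]
    rw [show S ^ (j : Nat) * g * ψ U * (S ^ (j : Nat) * g)⁻¹ =
      S ^ (j : Nat) * (g * ψ U * g⁻¹) * (S ^ (j : Nat))⁻¹ by group, hk, conj_S_pow,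
      ← pow_mod_orderOf, orderOf_U]
    have : 6 ^ (j : Nat) * k % 11 = 1 := by rw [Nat.mul_mod, Nat.mod_mod] at hj; rw [Nat.mul_mod, hj]
    rw [this, pow_one]
  generalize S ^ (j : Nat) * g = v at hU
  set χ := MulAut.conj v * ψ with hχ
  have h2 : U * χ S = χ S * U ^ 2 := by
    conv_lhs => rw [← hU]
    rw [← map_mul, U_S, map_mul, map_pow, hU]
  obtain ⟨i, hi⟩ := mem_cent_U (g := χ S * S⁻¹) (by
    rw [← mul_assoc U, h2, mul_assoc, mul_assoc]
    congr 1
    rw [eq_mul_inv_iff_mul_eq, mul_assoc, U_S, inv_mul_cancel_left])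
  obtain ⟨c, hc1, hc⟩ : ∃ c : K0, (c = 1 ∨ c = x2) ∧ χ S = c * (U ^ i * S) := by
    rcases hi with h | h
    · exact ⟨1, Or.inl rfl, by rw [one_mul]; exact mul_inv_eq_iff_eq_mul.mp h⟩
    · exact ⟨x2, Or.inr rfl, by rw [← mul_assoc]; exact mul_inv_eq_iff_eq_mul.mp h⟩
  have hcc : ∀ a : K0, a * c = c * a := fun a => by
    rcases hc1 with rfl | rfl
    · simp
    · exact x2_comm a
  refine ⟨U ^ (9 * i) * v, ?_, ?_⟩
  · rw [map_mul, mul_assoc (MulAut.conj (U ^ (9 * i))), ← hχ, MulAut.mul_apply,
      MulAut.conj_apply, hU, ((Commute.refl U).pow_left (9 * i)).eq, mul_inv_cancel_right]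
  · have e : (MulAut.conj (U ^ (9 * i) * v) * ψ) S = S * c := by
      rw [map_mul, mul_assoc (MulAut.conj (U ^ (9 * i))), ← hχ, MulAut.mul_apply,
        MulAut.conj_apply, hc, mul_inv_eq_iff_eq_mul, ← mul_assoc (U ^ (9 * i)) c, hcc,
        mul_assoc c, ← mul_assoc (U ^ (9 * i)) (U ^ i), ← pow_add, U_pow_S, ← mul_assoc c,
        ← hcc S, mul_assoc, mul_assoc]
      congr 2
      rw [← pow_mod_orderOf U (2 * (9 * i + i)), ← pow_mod_orderOf U (9 * i), orderOf_U,
        show 2 * (9 * i + i) % 11 = 9 * i % 11 from by omega]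
    rcases hc1 with rfl | rfl
    · exact Or.inl (by rw [e, mul_one])
    · exact Or.inr e

/-- Every automorphism is inner or inner times the twist. -/
theorem aut_cases (ψ : MulAut K0) :
    ∃ g : K0, MulAut.conj g * ψ = 1 ∨ MulAut.conj g * ψ = twist := by
  obtain ⟨g, hU, hS | hS⟩ := exists_fix ψ
  · exact ⟨g, Or.inl (ext_USZ hU hS (image_Z _ hU hS))⟩
  · refine ⟨g, Or.inr ?_⟩
    have hU' : (twist * (MulAut.conj g * ψ)) U = U := by rw [MulAut.mul_apply, hU, twist_U]
    have hS' : (twist * (MulAut.conj g * ψ)) S = S := by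
      rw [MulAut.mul_apply, hS, map_mul, twist_S, twist_x2, mul_assoc, x2_sq, mul_one]
    have e : twist * (MulAut.conj g * ψ) = 1 :=
      ext_USZ hU' hS' (image_Z _ hU' hS')
    refine MulEquiv.ext fun a => twist.injective ?_
    rw [show twist (twist a) = a from twistHom_twice a]
    exact DFunLike.congr_fun e a

/-- The twist is not inner. -/
theorem twist_not_inner (g : K0) : MulAut.conj g ≠ twist := by
  intro h
  have hU := DFunLike.congr_fun h U
  rw [MulAut.conj_apply, twist_U, mul_inv_eq_iff_eq_mul] at hU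
  obtain ⟨i, hi⟩ := mem_cent_U hU
  have hS := DFunLike.congr_fun h S
  rw [MulAut.conj_apply, twist_S, mul_inv_eq_iff_eq_mul] at hS
  have e : U ^ i * S = S * x2 * U ^ i := by
    rcases hi with rfl | rfl
    · exact hS
    · have h1 : x2 * (U ^ i * S) = x2 * (S * x2 * U ^ i) := by
        rw [← mul_assoc, hS, ← mul_assoc _ x2, x2_comm, mul_assoc x2]
      exact mul_left_cancel h1
  rw [U_pow_S, mul_assoc, mul_right_inj, two_mul, pow_add, mul_left_inj] at e
  exact x2_not_pow i e.symm

end CfsgLib.Coset.HN.Out
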