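import Cfsg.Agent.Coset.HN.Out.Aut
import Cfsg.Prelude.Def_Spor_HN
import Cfsg.Prelude.Def_KGroupFacts
import Mathlib.GroupTheory.Index

/-!
The outer automorphism group of the presented Harada–Norton group, from three facts about its
action on the cosets of the image of the group on `x, y, z`.

The outer automorphism fixes `x, y` and sends `z` to `z x²` and `t` to `t ^ 3`.  An automorphism can
be composed with an inner one to fix `i = x²`, so it preserves the centraliser of `i`, on which it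
is inner or inner times that one; the image of `t` is then `t` or its conjugate by `i`.
-/

set_option autoImplicit false
set_option maxRecDepth 100000
set_option Elab.async false

namespace CfsgLib.Coset.HN.Out

open CfsgLib.Coset Cfsg.Spor

local notation "Gr" => Cfsg.Spor.HN

/-- The image of `x`. -/
noncomputable def gx : Gr := PresentedGroup.of Cfsg.Spor.HN.Gen.x
/-- The image of `y`. -/
noncomputable def gy : Gr := PresentedGroup.of Cfsg.Spor.HN.Gen.y
/-- The image of `z`. -/
noncomputable def gz : Gr := PresentedGroup.of Cfsg.Spor.HN.Gen.z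
/-- The image of `t`. -/
noncomputable def gt : Gr := PresentedGroup.of Cfsg.Spor.HN.Gen.t

/-- The map of the free group to a group from the images of the four generators. -/
def pick {X : Type*} (a b c d : X) : Cfsg.Spor.HN.Gen → X
  | .x => a
  | .y => b
  | .z => c
  | .t => d

theorem lift_rel {r : FreeGroup Cfsg.Spor.HN.Gen} (h : r ∈ Cfsg.Spor.HN.extra) :
    FreeGroup.lift (pick gx gy gz gt) r = 1 := by
  have h1 : PresentedGroup.mk (coxRelators Cfsg.Spor.HN.edges ∪ {r | r ∈ Cfsg.Spor.HN.extra}) r = 1 :=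
    PresentedGroup.one_of_mem (Or.inr h)
  refine Eq.trans ?_ h1
  congr 1
  refine FreeGroup.ext_hom _ _ fun a => ?_
  rw [FreeGroup.lift_apply_of]
  cases a <;> rfl

theorem r_z : gz * gz = 1 := by
  have h := lift_rel (r := Cfsg.Spor.HN.z ^ 2) (by simp [Cfsg.Spor.HN.extra])
  simpa [pick, pow_succ] using h

theorem gz_inv : gz⁻¹ = gz := inv_eq_of_mul_eq_one_right r_z

theorem r_zx : gz * gx * (gz * gx) = 1 := by
  have h := lift_rel (r := (Cfsg.Spor.HN.z * Cfsg.Spor.HN.x) ^ 2) (by simp [Cfsg.Spor.HN.extra])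
  simpa [pick, pow_succ] using h

theorem r_t : gt ^ 5 = 1 := by
  have h := lift_rel (r := Cfsg.Spor.HN.t ^ 5) (by simp [Cfsg.Spor.HN.extra])
  simpa [pick] using h

theorem r_xt : gx⁻¹ * gt * gx * gt ^ 2 = 1 := by
  have h := lift_rel (r := Cfsg.Spor.HN.x⁻¹ * Cfsg.Spor.HN.t * Cfsg.Spor.HN.x * Cfsg.Spor.HN.t ^ 2)
    (by simp [Cfsg.Spor.HN.extra])
  simpa [pick] using h

theorem r_ty : gt⁻¹ * gy⁻¹ * gt * gy = 1 := by
  have h := lift_rel (r := Cfsg.Spor.HN.t⁻¹ * Cfsg.Spor.HN.y⁻¹ * Cfsg.Spor.HN.t * Cfsg.Spor.HN.y)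
    (by simp [Cfsg.Spor.HN.extra])
  simpa [pick] using h

theorem r_zt : (gz * gt) ^ 3 = 1 := by
  have h := lift_rel (r := (Cfsg.Spor.HN.z * Cfsg.Spor.HN.t) ^ 3) (by simp [Cfsg.Spor.HN.extra])
  simpa [pick] using h

/-- The letters in the presented group. -/
noncomputable def LG : List Gr := [gx, gx⁻¹, gy, gy⁻¹, gz]

theorem LG_rels : ∀ w ∈ KD.rels, ev LG w = 1 := by
  have h : ∀ r ∈ Cfsg.Spor.HN.extra, FreeGroup.lift (pick gx gy gz gt) r = 1 :=
    fun r hr => lift_rel hr
  simp only [Cfsg.Spor.HN.extra, List.forall_mem_cons, List.forall_mem_nil, and_true] at h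
  obtain ⟨h0, h1, h2, h3, h4, h5, h6, h7, h8, h9, -⟩ := h
  simp only [KD.rels, List.forall_mem_cons, List.forall_mem_nil, and_true]
  simp [pick, pow_succ, mul_assoc, gz_inv] at h0 h1 h2 h3 h4 h5 h6 h7 h8 h9
  simp [LG, fl, mul_assoc, *]

/-- The map of the group on `x, y, z`. -/
noncomputable def ι : K0 →* Gr := numHom (by simp [LG]) LG_rels

theorem ι_ev (w : List Nat) : ι (ev Lk w) = ev LG w := numHom_ev _ _ w

theorem ι_fl (l : Nat) : ι (fl Lk l) = fl LG l := numHom_fl _ _ l

/-- The central involution of the image. -/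
noncomputable def gi : Gr := gx * gx

theorem ι_x : ι (fl Lk 0) = gx := ι_fl 0
theorem ι_y : ι (fl Lk 2) = gy := ι_fl 2
theorem ι_z : ι (fl Lk 4) = gz := ι_fl 4

theorem ι_x2 : ι x2 = gi := by
  rw [x2, map_mul, ι_fl]; rfl

theorem gi_sq : gi * gi = 1 := by rw [← ι_x2, ← map_mul, x2_sq, map_one]

theorem gi_inv : gi⁻¹ = gi := inv_eq_of_mul_eq_one_right gi_sq

theorem gi_comm (a : K0) : ι a * gi = gi * ι a := by rw [← ι_x2, ← map_mul, ← map_mul, x2_comm]

theorem gt_x : gx⁻¹ * gt * gx = gt ^ 3 := by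
  have h := mul_eq_one_iff_eq_inv.mp r_xt
  rw [h, inv_eq_iff_mul_eq_one, ← pow_add, r_t]

theorem gt_y : gt * gy = gy * gt := by
  have h : gy * gt * (gt⁻¹ * gy⁻¹ * gt * gy) = gy * gt := by rw [r_ty, mul_one]
  rw [show gy * gt * (gt⁻¹ * gy⁻¹ * gt * gy) = gt * gy by group] at h
  exact h

theorem gz_x : gx⁻¹ * gz * gx = gz * gi := by
  have h : gx⁻¹ = gz * gx * gz :=
    inv_eq_of_mul_eq_one_left (by rw [mul_assoc (gz * gx)]; exact r_zx)
  rw [h, mul_assoc (gz * gx) gz, r_z, mul_one, gi, mul_assoc]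

theorem gi_t : gi * gt * gi⁻¹ = gt⁻¹ := by
  have h2 : gx⁻¹ * gx⁻¹ * gt * (gx * gx) = gt ^ 9 := by
    rw [show gx⁻¹ * gx⁻¹ * gt * (gx * gx) = gx⁻¹ * (gx⁻¹ * gt * gx) * gx⁻¹⁻¹ by group, gt_x,
      ← conj_pow, inv_inv, gt_x, ← pow_mul]
  calc gi * gt * gi⁻¹ = gi⁻¹ * gt * gi := by rw [gi_inv]
    _ = gt ^ 9 := by rw [← h2, gi, mul_inv_rev]
    _ = gt⁻¹ := by
      rw [eq_inv_iff_mul_eq_one, ← pow_succ, show (9 + 1) = 5 * 2 from rfl, pow_mul, r_t, one_pow]

/-- The images of the generators under the outer automorphism. -/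
noncomputable def oimg : Cfsg.Spor.HN.Gen → Gr := pick gx gy (gz * gi) (gt ^ 3)

theorem oimg_rels : ∀ r ∈ coxRelators Cfsg.Spor.HN.edges ∪ {r | r ∈ Cfsg.Spor.HN.extra},
    FreeGroup.lift oimg r = 1 := by
  rintro r (hr | hr)
  · obtain ⟨a, ha, -⟩ := hr
    simp [coxNodes, Cfsg.Spor.HN.edges] at ha
  · have hinv : (gz * gi)⁻¹ = gz * gi := by
      rw [mul_inv_rev, gz_inv, gi_inv]
      have h := gi_comm (fl Lk 4)
      rw [ι_fl] at h
      exact h.symm
    have hk : ∀ w ∈ KD.rels, ev LG (subW w) = 1 := fun w hw => by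
      rw [← ι_ev, (eqW (lsubW w) lnil).mp (allList_iff.mp sub_rels w hw), ev_nil, map_one]
    simp only [KD.rels, List.forall_mem_cons, List.forall_mem_nil, and_true] at hk
    obtain ⟨h0, h1, h2, h3, h4, h5, h6, h7, h8, h9, -⟩ := hk
    simp [subW, imgW, LG, fl, mul_assoc] at h0 h1 h2 h3 h4 h5 h6 h7 h8 h9
    have ht5 : (gt ^ 3) ^ 5 = 1 := by rw [← pow_mul, mul_comm, pow_mul, r_t, one_pow]
    have htx : gx⁻¹ * gt ^ 3 * gx * (gt ^ 3) ^ 2 = 1 := by
      have e : gx⁻¹ * gt ^ 3 * gx = (gt ^ 3) ^ 3 := by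
        calc gx⁻¹ * gt ^ 3 * gx = gx⁻¹ * gt ^ 3 * gx⁻¹⁻¹ := by rw [inv_inv]
          _ = (gx⁻¹ * gt * gx⁻¹⁻¹) ^ 3 := conj_pow.symm
          _ = (gt ^ 3) ^ 3 := by rw [inv_inv, gt_x]
      rw [e, ← pow_add, ← pow_mul, show 3 * (3 + 2) = 5 * 3 from rfl, pow_mul, r_t, one_pow]
    have hty : (gt ^ 3)⁻¹ * gy⁻¹ * gt ^ 3 * gy = 1 := by
      have := ((show Commute gt gy from gt_y).pow_left 3).eq
      rw [mul_assoc _ (gt ^ 3), this]
      group
    have hzt : (gz * gi * gt ^ 3) ^ 3 = 1 := by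
      have e : gz * gi * gt ^ 3 = gx⁻¹ * (gz * gt) * gx⁻¹⁻¹ := by
        rw [← gz_x, ← gt_x]; group
      rw [e, conj_pow, r_zt]
      group
    simp only [Cfsg.Spor.HN.extra, Set.mem_setOf_eq, List.mem_cons, List.not_mem_nil, or_false]
      at hr
    rcases hr with rfl | rfl | rfl | rfl | rfl | rfl | rfl | rfl | rfl | rfl | rfl | rfl | rfl | rfl
    all_goals
      simp only [map_mul, map_pow, map_inv, FreeGroup.lift_apply_of, oimg, pick]
    rotate_left 10
    · exact ht5
    · exact htx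
    · exact hty
    · exact hzt
    all_goals simp [pow_succ, mul_assoc, hinv]
    all_goals simp [gi, mul_assoc, *]

/-- The outer automorphism, as a homomorphism. -/
noncomputable def outHom : Gr →* Gr := PresentedGroup.toGroup oimg_rels

theorem outHom_x : outHom gx = gx := PresentedGroup.toGroup.of oimg_rels
theorem outHom_y : outHom gy = gy := PresentedGroup.toGroup.of oimg_rels
theorem outHom_z : outHom gz = gz * gi := PresentedGroup.toGroup.of oimg_rels
theorem outHom_t : outHom gt = gt ^ 3 := PresentedGroup.toGroup.of oimg_rels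

theorem outHom_ι : outHom.comp ι = ι.comp (twist : MulAut K0).toMonoidHom := by
  refine MonoidHom.eq_of_eqOn_dense (closure_numGens (k := 5) (rels := KD.rels)) ?_
  intro v hv
  obtain ⟨l, hl, rfl⟩ := List.getElem_of_mem hv
  rw [show (numGens 5 KD.rels)[l] = fl Lk l from (List.getD_eq_getElem _ _ hl).symm]
  rw [length_numGens] at hl
  show outHom (ι (fl Lk l)) = ι (twist (fl Lk l))
  rcases Nat.lt_or_ge l 4 with h | h
  · rw [twist_gen l h, ι_fl]
    interval_cases l <;> simp [LG, fl, outHom_x, outHom_y]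
  · obtain rfl : l = 4 := by omega
    rw [twist_z, map_mul, ι_x2, ι_fl]
    exact outHom_z

/-- The facts used about the coset action. -/
structure Facts : Prop where
  inj : Function.Injective ι
  card : Nat.card Gr = 273030912000000
  simple : IsSimpleGroup Gr
  centU : ∀ g : Gr, g * ι U = ι U * g → g ∈ ι.range
  centI : ∀ g : Gr, g * gi = gi * g → g ∈ ι.range
  cand : ∀ s : Gr, s ^ 5 = 1 → (∀ a, ι a * gt = gt * ι a → ι a * s = s * ι a) →
    (gz * s) ^ 3 = 1 → gi * s * gi⁻¹ = s⁻¹ → s = gt ∨ s = gt⁻¹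

variable (F : Facts)
include F

theorem fin_Gr : Finite Gr := Nat.finite_of_card_ne_zero (by rw [F.card]; norm_num)

theorem gi_ne : gi ≠ 1 := fun h => x2_ne (F.inj (by rw [ι_x2, h, map_one]))

theorem outHom_bijective : Function.Bijective outHom := by
  have := fin_Gr F
  have := F.simple
  have hinj : Function.Injective outHom := by
    rcases this.eq_bot_or_eq_top_of_normal outHom.ker inferInstance with h | h
    · exact (MonoidHom.ker_eq_bot_iff outHom).mp h
    · exfalso
      have h0 : outHom gi = 1 := MonoidHom.mem_ker.mp (h ▸ Subgroup.mem_top _)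
      rw [gi, map_mul, outHom_x] at h0
      exact gi_ne F h0
  exact ⟨hinj, Finite.surjective_of_injective hinj⟩

/-- The outer automorphism. -/
noncomputable def outer : MulAut Gr := MulEquiv.ofBijective outHom (outHom_bijective F)

theorem outer_ι (a : K0) : outer F (ι a) = ι (twist a) := DFunLike.congr_fun outHom_ι a

theorem outer_not_inner : outer F ∉ Cfsg.Inn Gr := by
  rintro ⟨g, hg⟩
  have h : ∀ a, g * a * g⁻¹ = outer F a := fun a => DFunLike.congr_fun hg a
  have hi := h gi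
  rw [show outer F gi = gi from by rw [← ι_x2, outer_ι, twist_x2],
    mul_inv_eq_iff_eq_mul] at hi
  obtain ⟨a, rfl⟩ := F.centI g hi
  refine twist_not_inner a (MulEquiv.ext fun b => F.inj ?_)
  rw [MulAut.conj_apply, map_mul, map_mul, map_inv, h, outer_ι]

theorem conj_gi (φ : MulAut Gr) : ∃ g : Gr, (MulAut.conj g * φ) gi = gi := by
  have := fin_Gr F
  have : Fact (Nat.Prime 11) := ⟨by norm_num⟩
  have hU : orderOf (ι U) = 11 := by rw [orderOf_injective ι F.inj, orderOf_U]
  have hc : ∀ V : Gr, orderOf V = 11 →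
      Nat.card (Subgroup.zpowers V) = 11 ^ (Nat.card Gr).factorization 11 := by
    intro V hV
    rw [Nat.card_zpowers, hV, F.card]
    have : (273030912000000 : Nat).factorization 11 = 1 := by
      rw [Nat.factorization_def _ (by norm_num), show (273030912000000 : Nat) = 11 * 24820992000000
        from by norm_num, padicValNat.mul (by norm_num) (by norm_num),
        padicValNat.self (by norm_num), padicValNat.eq_zero_of_not_dvd (by norm_num)]
    rw [this, pow_one]
  have h2 : orderOf (φ (ι U)) = 11 := by rw [MulEquiv.orderOf_eq, hU]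
  obtain ⟨g, hg⟩ := MulAction.exists_smul_eq Gr (Sylow.ofCard _ (hc _ h2))
    (Sylow.ofCard _ (hc _ hU))
  have hmem : ι U ∈ ((g • Sylow.ofCard _ (hc _ h2) : Sylow 11 Gr) : Subgroup Gr) := by
    rw [hg]; exact Subgroup.mem_zpowers _
  rw [Sylow.coe_subgroup_smul] at hmem
  obtain ⟨v, hv, hve⟩ := hmem
  obtain ⟨m, rfl⟩ := Subgroup.mem_zpowers_iff.mp hv
  have hcm : Commute (φ gi) (φ (ι U) ^ m) := by
    refine (Commute.map ?_ φ).zpow_right m
    exact (gi_comm U).symm
  refine ⟨g, ?_⟩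
  rw [MulAut.mul_apply, MulAut.conj_apply]
  set w := g * φ gi * g⁻¹ with hw
  have hwU : w * ι U = ι U * w := by
    rw [show ι U = g * φ (ι U) ^ m * g⁻¹ from hve.symm]
    calc g * φ gi * g⁻¹ * (g * φ (ι U) ^ m * g⁻¹) = g * (φ gi * φ (ι U) ^ m) * g⁻¹ := by group
        _ = g * (φ (ι U) ^ m * φ gi) * g⁻¹ := by rw [hcm.eq]
        _ = g * φ (ι U) ^ m * g⁻¹ * (g * φ gi * g⁻¹) := by group
  obtain ⟨a, ha⟩ := F.centU w hwU
  have h2' : a * a = 1 := F.inj (by
    rw [map_mul, ha, map_one, hw,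
      show g * φ gi * g⁻¹ * (g * φ gi * g⁻¹) = g * (φ gi * φ gi) * g⁻¹ by group, ← map_mul,
      gi_sq, map_one]
    group)
  have hne : a ≠ 1 := by
    intro h1
    rw [h1, map_one, hw, eq_comm, conj_eq_one_iff] at ha
    exact gi_ne F (φ.injective (ha.trans (map_one φ).symm))
  rw [← ha, invol_cent_U (F.inj (by rw [map_mul, map_mul, ha]; exact hwU)) h2' hne, ι_x2]

omit F in
/-- Generation by `x, y, z, t`. -/
theorem ext_gen {α β : MulAut Gr} (hK : ∀ a, α (ι a) = β (ι a)) (ht : α gt = β gt) : α = β := by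
  refine MulEquiv.ext fun g => ?_
  have hg : g ∈ Subgroup.closure (Set.range (PresentedGroup.of (rels :=
      coxRelators Cfsg.Spor.HN.edges ∪ {r | r ∈ Cfsg.Spor.HN.extra}))) := by
    rw [PresentedGroup.closure_range_of]; trivial
  induction hg using Subgroup.closure_induction with
  | mem g hg =>
    obtain ⟨a, rfl⟩ := hg
    cases a
    · have h := hK (fl Lk 0); rw [ι_x] at h; exact h
    · have h := hK (fl Lk 2); rw [ι_y] at h; exact h
    · have h := hK (fl Lk 4); rw [ι_z] at h; exact h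
    · exact ht
  | one => simp
  | mul a b _ _ ha hb => rw [map_mul, map_mul, ha, hb]
  | inv a _ ha => rw [map_inv, map_inv, ha]

/-- An automorphism fixing the image of the group on `x, y, z` is `1` or conjugation by `i`. -/
theorem fix_K (ω : MulAut Gr) (hω : ∀ a, ω (ι a) = ι a) : ω ∈ Cfsg.Inn Gr := by
  have hz : ω gz = gz := by have h := hω (fl Lk 4); rwa [ι_z] at h
  have hi : ω gi = gi := ι_x2 ▸ hω x2
  rcases F.cand (ω gt) (by rw [← map_pow, r_t, map_one])
      (fun a h => by simpa [hω] using congrArg ω h)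
      (by simpa [hz] using congrArg ω r_zt)
      (by simpa [hi] using congrArg ω gi_t) with h | h
  · rw [ext_gen (α := ω) (β := 1) (fun a => hω a) h]
    exact one_mem _
  · refine ⟨gi, ext_gen (fun a => ?_) ?_⟩
    · rw [hω, MulAut.conj_apply, mul_inv_eq_iff_eq_mul]
      exact (gi_comm a).symm
    · rw [h, MulAut.conj_apply, gi_t]

theorem two_classes (φ : MulAut Gr) :
    φ ∈ Cfsg.Inn Gr ∨ (outer F)⁻¹ * φ ∈ Cfsg.Inn Gr := by
  obtain ⟨g, hg⟩ := conj_gi F φ
  set χ := MulAut.conj g * φ with hχ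
  have hmem : ∀ a, χ (ι a) ∈ ι.range := fun a => by
    refine F.centI _ ?_
    simpa [hg] using congrArg χ (gi_comm a)
  have := fin
  let E : K0 ≃* ι.range := ι.ofInjective F.inj
  let f : K0 →* K0 :=
    E.symm.toMonoidHom.comp ((χ.toMonoidHom.comp ι).codRestrict ι.range hmem)
  have hf : ∀ a, ι (f a) = χ (ι a) := fun a => by
    have h := E.apply_symm_apply ⟨χ (ι a), hmem a⟩
    exact congrArg Subtype.val h
  have finj : Function.Injective f := fun a b h => F.inj (χ.injective (by rw [← hf, ← hf, h]))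
  let ψ : MulAut K0 := MulEquiv.ofBijective f ⟨finj, Finite.surjective_of_injective finj⟩
  have hψ : ∀ a, ι (ψ a) = χ (ι a) := hf
  have hinn : ∀ v : Gr, MulAut.conj v ∈ Cfsg.Inn Gr := fun v => ⟨v, rfl⟩
  obtain ⟨k, h | h⟩ := aut_cases ψ
  · left
    have := fix_K F (MulAut.conj (ι k) * χ) fun a => by
      rw [MulAut.mul_apply, MulAut.conj_apply, ← hψ, ← map_inv, ← map_mul, ← map_mul]
      exact congrArg ι (DFunLike.congr_fun h a)
    rw [hχ, ← mul_assoc] at this
    exact (Subgroup.mul_mem_cancel_left _ (mul_mem (hinn (ι k)) (hinn g))).mp this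
  · right
    have := fix_K F ((outer F)⁻¹ * (MulAut.conj (ι k) * χ)) fun a => by
      rw [MulAut.mul_apply, MulAut.mul_apply, MulAut.conj_apply, ← hψ, ← map_inv, ← map_mul,
        ← map_mul]
      refine (outer F).injective ?_
      rw [MulAut.apply_inv_self, outer_ι]
      exact congrArg ι (DFunLike.congr_fun h a)
    have hn : (Cfsg.Inn Gr).Normal := inferInstance
    rw [hχ, ← mul_assoc (MulAut.conj (ι k)), hn.mem_comm_iff, mul_assoc,
      Subgroup.mul_mem_cancel_left _ (mul_mem (hinn (ι k)) (hinn g))] at this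
    exact hn.mem_comm_iff.mp this

/-- The outer automorphism group has order two. -/
theorem card_out : Nat.card (Cfsg.Out Gr) = 2 := by
  show (Cfsg.Inn Gr).index = 2
  rw [Subgroup.index_eq_two_iff]
  refine ⟨(outer F)⁻¹, fun b => ?_⟩
  have hn : (Cfsg.Inn Gr).Normal := inferInstance
  by_cases hb : b ∈ Cfsg.Inn Gr
  · refine Or.inr ⟨hb, fun h => outer_not_inner F ?_⟩
    exact inv_mem_iff.mp ((Subgroup.mul_mem_cancel_left _ hb).mp h)
  · refine Or.inl ⟨?_, hb⟩
    rcases two_classes F b with h | h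
    · exact absurd h hb
    · exact hn.mem_comm_iff.mp h

end CfsgLib.Coset.HN.Out
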