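import Cfsg.Agent.Coset.HN.LowDefs

/-! The walk showing that `(z t³)³` moves the base point. -/

set_option autoImplicit false
set_option maxRecDepth 100000

namespace CfsgLib.Coset.HN.Out

/-- The steps of the walk along `(z t³)³`. -/
noncomputable def zt3C : WalkC := ⟨[⟨0, ⟨0, 0⟩, 0x0⟩,
  ⟨3, ⟨0, 0⟩, 0xa290c2cb659⟩,
  ⟨4, ⟨0, 0⟩, 0xa29142cb659⟩,
  ⟨8, ⟨6, 0⟩, 0xd36cc⟩,
  ⟨26, ⟨0, 1⟩, 0x144dab24b2185d664⟩,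
  ⟨6, ⟨0, 0⟩, 0x89a9145216cb30c⟩,
  ⟨12, ⟨0, 1⟩, 0x5256d3764a61859⟩,
  ⟨5, ⟨0, 0⟩, 0xac85986165b⟩,
  ⟨7, ⟨42, 0⟩, 0x1a8a269d6ec8a4ad9⟩], ⟨0, 0⟩⟩

/-- The element reached. -/
noncomputable def zt3K : Nat := 0x1a8a269d6ec8a4ad9

end CfsgLib.Coset.HN.Out
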