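import Cfsg.Agent.Coset.HN.Simple
import Cfsg.Agent.Coset.HN.Out.Main
import Cfsg.Agent.Coset.HN.Out.WalkData

/-!
The facts about the coset action used for the outer automorphism group: the centralisers of an
element of order 11 and of the central involution of the point stabiliser lie in it, and an element
centralising the stabiliser of a pair of points behaves like `t`.
-/

set_option autoImplicit false
set_option maxRecDepth 100000
set_option Elab.async false

namespace CfsgLib.Coset.HN.Out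

open CfsgLib.Coset

local notation "Gr" => Cfsg.Spor.HN

theorem ι_eq_ψg : ι = ψg := by
  refine MonoidHom.eq_of_eqOn_dense (closure_numGens (k := 5) (rels := KD.rels)) ?_
  intro v hv
  obtain ⟨l, hl, rfl⟩ := List.getElem_of_mem hv
  rw [show (numGens 5 KD.rels)[l] = fl Lk l from (List.getD_eq_getElem _ _ hl).symm]
  rw [length_numGens] at hl
  have h := ψg_ev (w := [l]) (by simpa using hl)
  simp only [ev_cons, ev_nil, mul_one] at h
  rw [h, ι_fl]
  interval_cases l <;> rfl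

theorem ι_injective : Function.Injective ι := ι_eq_ψg ▸ ψg_injective

theorem φ_ι_p0 (a : K0) : φ (ι a) p0 = p0 := ι_eq_ψg ▸ φ_ψg_p0 a

theorem mem_range_of_fix {g : Gr} (h : φ g p0 = p0) : g ∈ ι.range := ι_eq_ψg ▸ mem_HX_of_fix h

theorem φ_gi_p0 : φ gi p0 = p0 := ι_x2 ▸ φ_ι_p0 x2

theorem opN_self {i : Nat} (hi : i < 9) {a : K0} (h : opN i a = opN i 1) : a ∈ Sg i := by
  rw [opN_eq hi, opN_eq hi, opnt_eq_iff, inv_one, mul_one] at h
  exact h

theorem point_cases (p : Om) : ∃ (i : Nat) (c : K0), i < 9 ∧ opN i c = p := by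
  obtain ⟨c, hc⟩ := opnt_surj p
  exact ⟨p.1.1, c, p.1.2, by rw [opN_eq p.1.2]; exact hc⟩

theorem opN_zero (c : K0) : opN 0 c = p0 :=
  opN_congr (by norm_num) (by rw [Sg_zero]; trivial)

theorem fix_conj {i : Nat} (hi : i < 9) {c a : K0} (h : φ (ι a) (opN i c) = opN i c) :
    c * a⁻¹ * c⁻¹ ∈ Sg i := by
  rw [ι_eq_ψg, φ_ψg, show tr a = (tr a⁻¹)⁻¹ by rw [map_inv, inv_inv], tr_inv_opN, opN_eq hi,
    opN_eq hi, opnt_eq_iff] at h
  exact h

theorem centU_fact (g : Gr) (hg : g * ι U = ι U * g) : g ∈ ι.range := by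
  obtain ⟨i, c, hi, hc⟩ := point_cases (φ g p0)
  have hfix : φ (ι U) (opN i c) = opN i c := by
    rw [hc, ← Equiv.Perm.mul_apply, ← map_mul, ← hg, map_mul, Equiv.Perm.mul_apply, φ_ι_p0]
  have hm := fix_conj hi hfix
  haveI := card_K0_le.1
  have hord : orderOf (c * U⁻¹ * c⁻¹) = 11 := by
    rw [← MulAut.conj_apply, MulEquiv.orderOf_eq, orderOf_inv, orderOf_U]
  have hd : 11 ∣ Nat.card (Sg i) := hord ▸ Subgroup.orderOf_dvd_natCard _ hm
  rw [le_antisymm (card_Sg_le i hi) (card_Sg_ge i hi)] at hd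
  obtain rfl : i = 0 := (by decide +kernel : ∀ i < 9, 11 ∣ orders.getD i 0 → i = 0) i hi hd
  exact mem_range_of_fix (hc ▸ opN_zero c)

theorem gi_ne_one : gi ≠ 1 := fun h => x2_ne (ι_injective (by rw [ι_x2, h, map_one]))

theorem centI_fact (g : Gr) (hg : g * gi = gi * g) : g ∈ ι.range := by
  set M := Subgroup.centralizer ({gi} : Set Gr)
  have hle : HX ≤ M := by
    rintro _ ⟨a, rfl⟩
    rw [Subgroup.mem_centralizer_singleton_iff, ← ι_eq_ψg]
    exact gi_comm a
  rcases maximal_HX hle with h | h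
  · have hgM : g ∈ M := Subgroup.mem_centralizer_singleton_iff.2 hg
    rw [h] at hgM
    exact ι_eq_ψg ▸ hgM
  · exfalso
    haveI := card_HN_le.1
    haveI := simple_HN
    have hc : gi ∈ Subgroup.center Gr := Subgroup.mem_center_iff.2 fun w =>
      Subgroup.mem_centralizer_singleton_iff.1 (h ▸ Subgroup.mem_top w : w ∈ M)
    rcases IsSimpleGroup.eq_bot_or_eq_top_of_normal (Subgroup.center Gr) inferInstance with e | e
    · rw [e] at hc; exact gi_ne_one hc
    · letI : CommGroup Gr :=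
        { (inferInstance : Group Gr) with
          mul_comm := fun a b => (Subgroup.mem_center_iff.1 (e ▸ Subgroup.mem_top b) a) }
      have hp : (Nat.card Gr).Prime := IsSimpleGroup.prime_card
      rw [card_HN] at hp
      exact absurd hp (by norm_num)

theorem gt_eq : gt = fl Lg 5 := rfl

theorem walk_t : walkOK KD.Tb baseK LD.CS LD.RS 101 [5] ⟨[⟨0, ⟨0, 0⟩, 0⟩], ⟨0, 0⟩⟩ 0 [] 1 [] = true := by
  decide +kernel

theorem φ_t_p0 : φ gt⁻¹ p0 = opN 1 1 := by
  have h := walk_sound (i := 0) (j := 1) (k := []) (k1 := []) (by norm_num) (by norm_num) (by simp)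
    (by simp) walk_t
  rw [ev_nil, ← inv_ev_LO [5] (by simp), ← φ_ev] at h
  rw [gt_eq, map_inv]
  simpa [p0] using h

/-- The word `(z t³)³`. -/
def zt3W : List Nat := [4, 5, 5, 5, 4, 5, 5, 5, 4, 5, 5, 5]

theorem walk_zt3 : low (up zt3K) = true ∧
    walkOK KD.Tb baseK LD.CS LD.RS 101 zt3W zt3C 0 [] 2 (up zt3K) = true := by
  decide +kernel

theorem zt3_ne : (gz * gt ^ 3) ^ 3 ≠ 1 := by
  intro h
  have hw := walk_sound (i := 0) (j := 2) (k := []) (k1 := up zt3K) (by norm_num) (by norm_num)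
    (by simp) (low_iff walk_zt3.1) walk_zt3.2
  have e : ev Lg zt3W = 1 := by
    rw [← h]
    simp only [zt3W, ev_cons, ev_nil, mul_one, pow_succ, pow_zero, one_mul, mul_assoc]
    rfl
  rw [ev_nil, ← inv_ev_LO zt3W (by simp [zt3W]), ← φ_ev, e, map_one, inv_one, Equiv.Perm.one_apply] at hw
  have h1 := congrArg (fun q : Om => q.1.1) hw
  simp [opN, opnt] at h1

/-- The points fixed by the stabiliser of the pair. -/
theorem fixed_points : allBelow 11 1408 (fun b =>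
    cond (cond (Nat.beq (followF (tget KD.Tb) b (KD.CK1G.getD 0 [])) b)
        (Nat.beq (followF (tget KD.Tb) b (KD.CK1G.getD 1 [])) b) false)
      (Nat.ble 1 ((([[], [0], [0, 0], [1]] : List (List Nat)).filter
        fun w => Nat.beq (followF (tget KD.Tb) 0 w) b).length)) true) = true := by
  decide +kernel

theorem gt_comm {a : K0} (ha : σK a 0 = 0) : ι a * gt = gt * ι a := by
  rw [ι_eq_ψg, gt_eq]
  exact frame_Lg.comm_t ha

theorem Sg_one_eq : Sg 1 = pstab σK (0 : Fin 1408) := by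
  haveI := card_K0_le.1
  have hle : Sg 1 ≤ pstab σK (0 : Fin 1408) := by
    rw [Sg_eq_listed le_rfl (by norm_num)]
    refine (Subgroup.closure_le _).mpr ?_
    rintro _ ⟨w, hw, rfl⟩
    exact exists_fix_Sg1 w hw
  exact Subgroup.eq_of_le_of_card_ge hle (card_pstab_zero_le.trans (card_Sg_ge 1 (by norm_num)))

/-- The short words reaching the fixed points. -/
def eWs : List (List Nat) := [[], [0], [0, 0], [1]]

theorem eWs_low : ∀ w ∈ eWs, ∀ l ∈ w, l < 5 := by decide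

theorem pair_point {q : Om} (hq : ∀ a, σK a 0 = 0 → φ (ι a) q = q) :
    q = p0 ∨ ∃ w ∈ eWs, q = opN 1 (ev Lk w) := by
  haveI := card_K0_le.1
  obtain ⟨i, c, hi, rfl⟩ := point_cases q
  have hmem : ∀ a, σK a 0 = 0 → c * a * c⁻¹ ∈ Sg i := fun a ha => by
    have h := fix_conj hi (hq a⁻¹ (by
      rw [map_inv, Equiv.Perm.inv_def, Equiv.symm_apply_eq]; exact ha.symm))
    rwa [inv_inv] at h
  have hle : (pstab σK (0 : Fin 1408)).map (MulAut.conj c).toMonoidHom ≤ Sg i := by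
    rintro _ ⟨a, ha, rfl⟩
    exact hmem a (mem_pstab.mp ha)
  have hcard := Subgroup.card_le_of_le hle
  rw [Subgroup.card_map_of_injective (MulAut.conj c).injective, ← Sg_one_eq] at hcard
  have hge := card_Sg_ge 1 (by norm_num)
  have hle' := card_Sg_le i hi
  obtain rfl | rfl : i = 0 ∨ i = 1 :=
    (by decide +kernel : ∀ i < 9, orders.getD 1 0 ≤ orders.getD i 0 → i = 0 ∨ i = 1) i hi (by omega)
  · exact Or.inl (opN_zero c)
  right
  set b := σK c⁻¹ (0 : Fin 1408) with hb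
  have hbfix : ∀ w ∈ KD.CK1G, σK (ev Lk w) b = b := by
    intro w hw
    have ha : ev Lk w ∈ pstab σK (0 : Fin 1408) := pstab_zero_eq ▸ Subgroup.subset_closure ⟨w, hw, rfl⟩
    have h := hmem _ (mem_pstab.mp ha)
    rw [Sg_one_eq, mem_pstab, map_mul, map_mul, Equiv.Perm.mul_apply, Equiv.Perm.mul_apply, ← hb] at h
    rw [hb, map_inv, Equiv.Perm.inv_def] at h
    rw [hb, map_inv, Equiv.Perm.inv_def, Equiv.eq_symm_apply]
    exact h
  have hlen : KD.CK1G.length = 2 := by decide +kernel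
  have hlow : ∀ w ∈ KD.CK1G, ∀ l ∈ w, l < 5 := by decide +kernel
  have hf : ∀ w ∈ KD.CK1G, followF (tget KD.Tb) b.1 w = b.1 := fun w hw => by
    rw [followF_eq]
    exact (matches_σK.fix_iff fun l hl => length_Lk.symm ▸ hlow w hw l hl).mp (hbfix w hw)
  have hb0 := of_allBelow fixed_points b.1 b.2
  have hg : ∀ j < 2, KD.CK1G.getD j [] ∈ KD.CK1G := fun j hj => by
    rw [List.getD_eq_getElem _ _ (hlen ▸ hj)]
    exact List.getElem_mem _
  have n0 : Nat.beq (followF (tget KD.Tb) b.1 (KD.CK1G.getD 0 [])) b.1 = true :=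
    Nat.beq_eq.mpr (hf _ (hg 0 (by norm_num)))
  have n1 : Nat.beq (followF (tget KD.Tb) b.1 (KD.CK1G.getD 1 [])) b.1 = true :=
    Nat.beq_eq.mpr (hf _ (hg 1 (by norm_num)))
  rw [n0, n1, cond_true, cond_true] at hb0
  obtain ⟨w, hw⟩ := List.exists_mem_of_length_pos (Nat.ble_eq.mp hb0)
  obtain ⟨hwm, hwb⟩ := List.mem_filter.mp hw
  have hwl := eWs_low w hwm
  refine ⟨w, hwm, ?_⟩
  refine opN_congr (by norm_num) ?_
  rw [Sg_one_eq, mem_pstab]
  have h0 : (σK (ev Lk w))⁻¹ 0 = b := Fin.ext (by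
    rw [matches_σK.follow_eq w 0 (fun l hl => length_Lk.symm ▸ hwl l hl), ← followF_eq]
    exact Nat.eq_of_beq_eq_true hwb)
  rw [map_mul, map_inv, Equiv.Perm.mul_apply, h0, hb, ← Equiv.Perm.mul_apply, ← map_mul, mul_inv_cancel,
    map_one, Equiv.Perm.one_apply]

theorem gi_conj {a : K0} : ι a * gi * (ι a)⁻¹ = gi := mul_inv_eq_iff_eq_mul.2 (gi_comm a)

theorem cand_fact (s : Gr) (h5 : s ^ 5 = 1)
    (hn : ∀ a, ι a * gt = gt * ι a → ι a * s = s * ι a)
    (hzs : (gz * s) ^ 3 = 1) (his : gi * s * gi⁻¹ = s⁻¹) : s = gt ∨ s = gt⁻¹ := by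
  have hq : ∀ a, σK a 0 = 0 → φ (ι a) (φ s p0) = φ s p0 := fun a ha => by
    rw [← Equiv.Perm.mul_apply, ← map_mul, hn a (gt_comm ha), map_mul, Equiv.Perm.mul_apply, φ_ι_p0]
  rcases pair_point hq with h | ⟨w, hw, h⟩
  · exfalso
    obtain ⟨a, rfl⟩ := mem_range_of_fix h
    rw [gi_inv, ← gi_comm, mul_assoc, gi_sq, mul_one] at his
    have h2 : ι a ^ 2 = 1 := by rw [pow_two]; nth_rewrite 1 [his]; exact inv_mul_cancel _
    have h1 : ι a = 1 := by
      have := pow_succ (ι a) 4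
      rw [h5, show (4 : Nat) = 2 * 2 from rfl, pow_mul, h2, one_pow, one_mul] at this
      exact this.symm
    rw [h1, mul_one, pow_succ, pow_two, r_z, one_mul] at hzs
    have hz : σK (fl Lk 4) = 1 := by
      rw [show fl Lk 4 = 1 from ι_injective (by rw [ι_z, map_one, hzs]), map_one]
    have key : ∃ b < 1408, follow (tget KD.Tb) b [4] ≠ b := by
      refine ⟨2, by norm_num, ?_⟩
      decide +kernel
    obtain ⟨b, hb, hne⟩ := key
    refine hne ((matches_σK.fix_iff (w := [4]) (i := (⟨b, hb⟩ : Fin 1408))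
      (fun l hl => length_Lk.symm ▸ by simp at hl; omega)).mp ?_)
    simp [hz]
  · set u := ι (ev Lk w) with hu
    have hs : φ s p0 = φ (u⁻¹ * gt⁻¹) p0 := by
      rw [h, map_mul, Equiv.Perm.mul_apply, φ_t_p0, hu, ← map_inv ι, ι_eq_ψg, φ_ψg, map_inv,
        tr_inv_opN, one_mul]
    obtain ⟨a, ha⟩ : (u⁻¹ * gt⁻¹)⁻¹ * s ∈ ι.range := by
      refine mem_range_of_fix ?_
      rw [map_mul, map_inv, Equiv.Perm.mul_apply, hs, Equiv.Perm.inv_def, Equiv.symm_apply_apply]
    have e1 : s * gi * s⁻¹ = u⁻¹ * gt⁻¹ * gi * gt * u := by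
      rw [show s = u⁻¹ * gt⁻¹ * ι a by rw [ha]; group]
      calc u⁻¹ * gt⁻¹ * ι a * gi * (u⁻¹ * gt⁻¹ * ι a)⁻¹
          = u⁻¹ * gt⁻¹ * (ι a * gi * (ι a)⁻¹) * gt * u := by group
        _ = _ := by rw [gi_conj]
    have hs2 : s ^ 2 = u⁻¹ * gt⁻¹ ^ 2 * u := by
      calc s ^ 2 = s * (gi * s * gi⁻¹)⁻¹ := by rw [his, inv_inv, pow_two]
        _ = (s * gi * s⁻¹) * gi⁻¹ := by group
        _ = u⁻¹ * gt⁻¹ * (gi * gt * gi⁻¹) * u := by
            rw [e1]
            have hc : u * gi⁻¹ = gi⁻¹ * u := by rw [gi_inv, hu, gi_comm]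
            calc u⁻¹ * gt⁻¹ * gi * gt * u * gi⁻¹ = u⁻¹ * gt⁻¹ * gi * gt * (u * gi⁻¹) := by group
              _ = _ := by rw [hc]; group
        _ = _ := by rw [gi_t, pow_two]; group
    have hst : s = u⁻¹ * gt⁻¹ * u := by
      calc s = s ^ 5 * s := by rw [h5, one_mul]
        _ = (s ^ 2) ^ 3 := by rw [← pow_succ, ← pow_mul]
        _ = (u⁻¹ * gt⁻¹ * u) ^ (2 * 3) := by
            rw [hs2, pow_mul]
            congr 1
            rw [show u⁻¹ * gt⁻¹ * u = u⁻¹ * gt⁻¹ * u⁻¹⁻¹ by rw [inv_inv], conj_pow, inv_inv]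
        _ = (u⁻¹ * gt⁻¹ * u) ^ 5 * (u⁻¹ * gt⁻¹ * u) := by rw [← pow_succ]
        _ = _ := by
            have h5' : (u⁻¹ * gt⁻¹ * u) ^ 5 = 1 := by
              rw [show u⁻¹ * gt⁻¹ * u = u⁻¹ * gt⁻¹ * u⁻¹⁻¹ by rw [inv_inv], conj_pow, inv_pow, r_t]
              group
            rw [h5', one_mul]
    have hgi2 : gx⁻¹ * gt⁻¹ * gx = (gt ^ 3)⁻¹ := by
      rw [← gt_x]; group
    have hno : s ≠ gt ^ 3 := fun e => zt3_ne (e ▸ hzs)
    have hno' : s ≠ (gt ^ 3)⁻¹ := fun e => zt3_ne (by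
      have hz' : gi * gz * gi⁻¹ = gz := by
        rw [← ι_z, ← gi_comm, mul_inv_cancel_right]
      calc (gz * gt ^ 3) ^ 3 = (gi * (gz * s) * gi⁻¹) ^ 3 := by
            rw [show gi * (gz * s) * gi⁻¹ = gi * gz * gi⁻¹ * (gi * s * gi⁻¹) by group, hz', his, e, inv_inv]
        _ = 1 := by rw [conj_pow, hzs]; group)
    simp only [eWs, List.mem_cons, List.not_mem_nil, or_false] at hw
    rcases hw with rfl | rfl | rfl | rfl
    · exact Or.inr (by rw [hst, hu]; simp)
    · refine absurd ?_ hno'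
      rw [hst, hu, show ι (ev Lk [0]) = gx by simp [ι_x]]
      exact hgi2
    · refine Or.inl ?_
      rw [hst, hu, show ι (ev Lk [0, 0]) = gi by simp [ι_x, gi], gi_inv]
      calc gi * gt⁻¹ * gi = (gi * gt * gi⁻¹)⁻¹ := by rw [gi_inv]; simp [mul_assoc, gi_inv]
        _ = gt := by rw [gi_t, inv_inv]
    · refine absurd ?_ hno
      have hx1 : ι (ev Lk [1]) = gx⁻¹ := by rw [ι_ev]; simp [LG, fl]
      rw [hst, hu, hx1, inv_inv]
      have e9 : gx⁻¹ * gt ^ 3 * gx = gt⁻¹ := by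
        rw [show gx⁻¹ * gt ^ 3 * gx = gx⁻¹ * gt ^ 3 * gx⁻¹⁻¹ by rw [inv_inv], ← conj_pow, inv_inv, gt_x,
          ← pow_mul, eq_inv_iff_mul_eq_one, ← pow_succ, show (3 * 3 + 1) = 5 * 2 from rfl, pow_mul, r_t,
          one_pow]
      rw [← e9]; group

/-- The facts. -/
theorem facts : Facts where
  inj := ι_injective
  card := card_HN
  simple := simple_HN
  centU := centU_fact
  centI := centI_fact
  cand := cand_fact

end CfsgLib.Coset.HN.Out
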